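import Mathlib

/-!
# The base of a closed symmetric set of norm-two vectors (helper572), for S2539

`RS B P` : `P` is a symmetric closed set of vectors of norm two for the positive definite form `B` on `ℤˡ`, every member
has a sign.  `exists_base` : a base; `conn` : it is connected if `P` is irreducible.
-/

set_option autoImplicit false

namespace Cfsg.Agent.H572.OT

open Module

variable {l : ℕ}

/-- closed symmetric sets of vectors of norm two -/
structure RS (B : LinearMap.BilinForm ℤ (Fin l → ℤ)) (P : Set (Fin l → ℤ)) : Prop where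
  symm : ∀ x y, B x y = B y x
  pos : ∀ x, x ≠ 0 → 0 < B x x
  two : ∀ x ∈ P, B x x = 2
  neg : ∀ x ∈ P, -x ∈ P
  closed : ∀ x ∈ P, ∀ y ∈ P, B x y = -1 → x + y ∈ P
  sgn : ∀ x ∈ P, (∀ i, 0 ≤ x i) ∨ (∀ i, x i ≤ 0)

/-- the positive members -/
def posP (P : Set (Fin l → ℤ)) : Set (Fin l → ℤ) := {x | x ∈ P ∧ ∀ i, 0 ≤ x i}

/-- the indecomposable positive members -/
def dec (P : Set (Fin l → ℤ)) : Set (Fin l → ℤ) := {x | x ∈ posP P ∧ ¬ ∃ y ∈ posP P, ∃ z ∈ posP P, x = y + z}

/-- the height -/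
def ht (x : Fin l → ℤ) : ℤ := ∑ i, x i

theorem ht_add (x y : Fin l → ℤ) : ht (x + y) = ht x + ht y := by
  unfold ht
  rw [← Finset.sum_add_distrib]
  rfl

namespace RS

variable {B : LinearMap.BilinForm ℤ (Fin l → ℤ)} {P : Set (Fin l → ℤ)} (R : RS B P)

include R

theorem ne_zero {x : Fin l → ℤ} (hx : x ∈ P) : x ≠ 0 := by
  rintro rfl
  have := R.two 0 hx
  rw [map_zero] at this
  norm_num at this

theorem ht_pos {x : Fin l → ℤ} (hx : x ∈ posP P) : 0 < ht x := by
  have h1 : 0 ≤ ht x := Finset.sum_nonneg fun i _ => hx.2 i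
  rcases h1.lt_or_eq with h2 | h2
  · exact h2
  · exfalso
    apply R.ne_zero hx.1
    funext i
    exact (Finset.sum_eq_zero_iff_of_nonneg fun i _ => hx.2 i).1 h2.symm i (Finset.mem_univ i)

theorem eq_zero {x : Fin l → ℤ} (hx : B x x ≤ 0) : x = 0 := by
  by_contra hcon
  exact absurd (R.pos x hcon) (not_lt.2 hx)

theorem norm_add (x y : Fin l → ℤ) : B (x + y) (x + y) = B x x + 2 * B x y + B y y := by
  simp only [map_add, LinearMap.add_apply]
  rw [R.symm y x]
  ring

theorem norm_sub (x y : Fin l → ℤ) : B (x - y) (x - y) = B x x - 2 * B x y + B y y := by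
  simp only [map_sub, LinearMap.sub_apply]
  rw [R.symm y x]
  ring

theorem le_one {x y : Fin l → ℤ} (hx : x ∈ P) (hy : y ∈ P) (hne : x ≠ y) : B x y ≤ 1 := by
  have h1 := R.pos (x - y) (sub_ne_zero.2 hne)
  rw [R.norm_sub, R.two x hx, R.two y hy] at h1
  omega

theorem neg_one_le {x y : Fin l → ℤ} (hx : x ∈ P) (hy : y ∈ P) (hne : x + y ≠ 0) : -1 ≤ B x y := by
  have h1 := R.pos (x + y) hne
  rw [R.norm_add, R.two x hx, R.two y hy] at h1
  omega

/-- two indecomposable members form an obtuse angle -/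
theorem dec_nonpos {x y : Fin l → ℤ} (hx : x ∈ dec P) (hy : y ∈ dec P) (hne : x ≠ y) : B x y ≤ 0 := by
  by_contra hcon
  have h1 := R.le_one hx.1.1 hy.1.1 hne
  have h2 : B x y = 1 := by omega
  have h3 : x - y ∈ P := by
    have := R.closed x hx.1.1 (-y) (R.neg y hy.1.1) (by rw [map_neg, h2])
    rwa [← sub_eq_add_neg] at this
  rcases R.sgn _ h3 with h4 | h4
  · exact hx.2 ⟨x - y, ⟨h3, h4⟩, y, hy.1, by rw [sub_add_cancel]⟩
  · refine hy.2 ⟨y - x, ⟨?_, fun i => ?_⟩, x, hx.1, by rw [sub_add_cancel]⟩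
    · have := R.neg _ h3
      rwa [neg_sub] at this
    · have := h4 i
      rw [Pi.sub_apply] at this ⊢
      omega

theorem dec_range {x y : Fin l → ℤ} (hx : x ∈ dec P) (hy : y ∈ dec P) (hne : x ≠ y) : B x y = 0 ∨ B x y = -1 := by
  have h1 := R.dec_nonpos hx hy hne
  have h2 := R.neg_one_le hx.1.1 hy.1.1 (by
    intro h0
    have h3 := R.ht_pos hx.1
    have h4 := R.ht_pos hy.1
    have h5 := ht_add x y
    rw [h0] at h5
    have h6 : ht (0 : Fin l → ℤ) = 0 := by unfold ht; simp
    omega)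
  omega

theorem mem_span_of_pos : ∀ (n : ℕ) (x : Fin l → ℤ), x ∈ posP P → ht x ≤ n → x ∈ Submodule.span ℤ (dec P) := by
  intro n
  induction n with
  | zero =>
    intro x hx hn
    have := R.ht_pos hx
    push_cast at hn
    omega
  | succ n ih =>
    intro x hx hn
    by_cases hd : ∃ y ∈ posP P, ∃ z ∈ posP P, x = y + z
    · obtain ⟨y, hy, z, hz, rfl⟩ := hd
      have h1 := R.ht_pos hy
      have h2 := R.ht_pos hz
      rw [ht_add] at hn
      push_cast at hn
      exact Submodule.add_mem _ (ih y hy (by omega)) (ih z hz (by omega))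
    · exact Submodule.subset_span ⟨hx, hd⟩

theorem mem_span {x : Fin l → ℤ} (hx : x ∈ P) : x ∈ Submodule.span ℤ (dec P) := by
  rcases R.sgn x hx with h | h
  · exact R.mem_span_of_pos (ht x).toNat x ⟨hx, h⟩ (Int.self_le_toNat _)
  · have h1 : -x ∈ posP P := ⟨R.neg x hx, fun i => by have := h i; rw [Pi.neg_apply]; omega⟩
    have h2 := R.mem_span_of_pos (ht (-x)).toNat (-x) h1 (Int.self_le_toNat _)
    have h3 := Submodule.neg_mem _ h2
    rwa [neg_neg] at h3

omit R in
theorem ht_sum {ι : Type*} (s : Finset ι) (f : ι → Fin l → ℤ) : ht (∑ i ∈ s, f i) = ∑ i ∈ s, ht (f i) := by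
  unfold ht
  rw [Finset.sum_comm]
  refine Finset.sum_congr rfl fun i _ => ?_
  rw [Finset.sum_apply]

theorem coef_zero {s : Finset ↥(dec P)} {g : ↥(dec P) → ℤ} (hg : ∀ i, 0 ≤ g i)
    (h0 : ∑ i ∈ s, g i • (i : Fin l → ℤ) = 0) : ∀ i ∈ s, g i = 0 := by
  have h1 : ht (∑ i ∈ s, g i • (i : Fin l → ℤ)) = 0 := by rw [h0]; unfold ht; simp
  rw [ht_sum] at h1
  have h2 : ∀ i : ↥(dec P), ht (g i • (i : Fin l → ℤ)) = g i * ht (i : Fin l → ℤ) := by
    intro i
    unfold ht
    rw [Finset.mul_sum]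
    rfl
  rw [Finset.sum_congr rfl fun i _ => h2 i] at h1
  have h3 := (Finset.sum_eq_zero_iff_of_nonneg fun i _ => mul_nonneg (hg i) (R.ht_pos i.2.1).le).1 h1
  intro i hi
  rcases mul_eq_zero.1 (h3 i hi) with h4 | h4
  · exact h4
  · exact absurd h4 (R.ht_pos i.2.1).ne'

/-- the indecomposable members are linearly independent -/
theorem linInd : LinearIndependent ℤ (Subtype.val : ↥(dec P) → Fin l → ℤ) := by
  classical
  rw [linearIndependent_iff']
  intro s g hs
  have hsplit : ∀ i, g i = max (g i) 0 - max (-g i) 0 := by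
    intro i
    rcases le_total (g i) 0 with h | h
    · rw [max_eq_right h, max_eq_left (by omega)]; ring
    · rw [max_eq_left h, max_eq_right (by omega)]; ring
  set x := ∑ i ∈ s, (max (g i) 0) • (i : Fin l → ℤ) with hx
  set y := ∑ i ∈ s, (max (-g i) 0) • (i : Fin l → ℤ) with hy
  have hxy : x = y := by
    rw [← sub_eq_zero, hx, hy, ← Finset.sum_sub_distrib, ← hs]
    refine Finset.sum_congr rfl fun i _ => ?_
    rw [← sub_smul, ← hsplit]
  have hB : B x y ≤ 0 := by
    have hexp : B x y = ∑ i ∈ s, ∑ j ∈ s, max (g i) 0 * (max (-g j) 0 * B (i : Fin l → ℤ) (j : Fin l → ℤ)) := by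
      rw [hx, hy]
      simp only [map_sum, LinearMap.sum_apply, map_smul, LinearMap.smul_apply, smul_eq_mul]
      rw [Finset.sum_comm]
      refine Finset.sum_congr rfl fun i _ => ?_
      rw [Finset.mul_sum]
      exact Finset.sum_congr rfl fun j _ => by ring
    rw [hexp]
    refine Finset.sum_nonpos fun i _ => Finset.sum_nonpos fun j _ => ?_
    by_cases hij : i = j
    · subst hij
      rcases le_total (g i) 0 with h | h
      · rw [max_eq_right h, zero_mul]
      · rw [max_eq_right (a := -g i) (by omega), zero_mul, mul_zero]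
    · have h1 := R.dec_nonpos i.2 j.2 (fun h => hij (Subtype.ext h))
      have h2 : 0 ≤ max (g i) 0 := le_max_right _ _
      have h3 : 0 ≤ max (-g j) 0 := le_max_right _ _
      exact mul_nonpos_of_nonneg_of_nonpos h2 (mul_nonpos_of_nonneg_of_nonpos h3 h1)
  rw [← hxy] at hB
  have hx0 := R.eq_zero hB
  have hy0 : y = 0 := by rw [← hxy, hx0]
  intro i hi
  have h1 := R.coef_zero (g := fun i => max (g i) 0) (fun i => le_max_right _ _) (hx ▸ hx0) i hi
  have h2 := R.coef_zero (g := fun i => max (-g i) 0) (fun i => le_max_right _ _) (hy ▸ hy0) i hi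
  rw [hsplit i, h1, h2, sub_zero]

/-- norms in the lattice are even -/
theorem even {x : Fin l → ℤ} (hx : x ∈ Submodule.span ℤ P) : Even (B x x) := by
  induction hx using Submodule.span_induction with
  | mem x hx => rw [R.two x hx]; exact ⟨1, rfl⟩
  | zero => rw [map_zero]; exact ⟨0, rfl⟩
  | add x y _ _ h1 h2 =>
    rw [R.norm_add]
    exact (h1.add (even_two_mul _)).add h2
  | smul a x _ h1 =>
    have h2 : B (a • x) (a • x) = a * (a * B x x) := by
      simp only [map_smul, LinearMap.smul_apply, smul_eq_mul]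
    rw [h2]
    exact (h1.mul_left _).mul_left _

/-- **The base.** -/
theorem exists_base : ∃ (n : ℕ) (δ : Fin n → Fin l → ℤ), n ≤ l ∧ (∀ i, δ i ∈ P) ∧ LinearIndependent ℤ δ ∧
    (∀ x ∈ P, x ∈ Submodule.span ℤ (Set.range δ)) ∧ ∀ i j, i ≠ j → B (δ i) (δ j) = 0 ∨ B (δ i) (δ j) = -1 := by
  have hli := R.linInd
  have hfin : Finite ↥(dec P) := hli.finite_of_isNoetherian
  have hft : Fintype ↥(dec P) := Fintype.ofFinite _
  have e : Fin (Nat.card ↥(dec P)) ≃ ↥(dec P) := (Finite.equivFin _).symm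
  have hn := hli.fintype_card_le_finrank
  rw [Module.finrank_fin_fun, ← Nat.card_eq_fintype_card] at hn
  refine ⟨Nat.card ↥(dec P), fun i => (e i : Fin l → ℤ), hn, fun i => (e i).2.1.1, hli.comp e e.injective, ?_, ?_⟩
  · intro x hx
    have h1 := R.mem_span hx
    have h2 : Set.range (fun i => (e i : Fin l → ℤ)) = dec P := by
      ext y
      constructor
      · rintro ⟨i, rfl⟩
        exact (e i).2
      · intro hy
        exact ⟨e.symm ⟨y, hy⟩, congrArg Subtype.val (e.apply_symm_apply ⟨y, hy⟩)⟩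
    rw [h2]
    exact h1
  · intro i j hij
    exact R.dec_range (e i).2 (e j).2 fun h => hij (e.injective (Subtype.ext h))

/-- **The base of an irreducible set is connected.** -/
theorem conn {n : ℕ} {δ : Fin n → Fin l → ℤ} (hδ : ∀ i, δ i ∈ P) (hspan : ∀ x ∈ P, x ∈ Submodule.span ℤ (Set.range δ))
    (hirr : ∀ P1 P2 : Set (Fin l → ℤ), P1.Nonempty → P2.Nonempty → P1 ∪ P2 = P →
      (∀ x ∈ P1, ∀ y ∈ P2, B x y = 0) → False)
    (S : Set (Fin n)) (hS : S.Nonempty) (hS' : Sᶜ.Nonempty) : ∃ i ∈ S, ∃ j ∈ Sᶜ, B (δ i) (δ j) ≠ 0 := by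
  classical
  by_contra hcon
  push Not at hcon
  have hle : ∀ U : Set (Fin n), Submodule.span ℤ (δ '' U) ≤ Submodule.span ℤ P := fun U =>
    Submodule.span_mono (by rintro _ ⟨i, -, rfl⟩; exact hδ i)
  have horth : ∀ x ∈ Submodule.span ℤ (δ '' S), ∀ y ∈ Submodule.span ℤ (δ '' Sᶜ), B x y = 0 := by
    intro x hx y hy
    induction hx using Submodule.span_induction with
    | mem x hx =>
      obtain ⟨i, hi, rfl⟩ := hx
      induction hy using Submodule.span_induction with
      | mem y hy =>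
        obtain ⟨j, hj, rfl⟩ := hy
        exact hcon i hi j hj
      | zero => rw [map_zero]
      | add x y _ _ h1 h2 => rw [map_add, h1, h2, add_zero]
      | smul a x _ h1 => rw [map_smul, h1, smul_zero]
    | zero => rw [map_zero, LinearMap.zero_apply]
    | add x y _ _ h1 h2 => rw [map_add, LinearMap.add_apply, h1, h2, add_zero]
    | smul a x _ h1 => rw [map_smul, LinearMap.smul_apply, h1, smul_zero]
  obtain ⟨i, hi⟩ := hS
  obtain ⟨j, hj⟩ := hS'
  refine hirr (P ∩ Submodule.span ℤ (δ '' S)) (P ∩ Submodule.span ℤ (δ '' Sᶜ))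
    ⟨δ i, hδ i, Submodule.subset_span ⟨i, hi, rfl⟩⟩ ⟨δ j, hδ j, Submodule.subset_span ⟨j, hj, rfl⟩⟩ ?_ ?_
  · apply Set.Subset.antisymm
    · rintro x (hx | hx) <;> exact hx.1
    · intro x hx
      have h1 := hspan x hx
      have h2 : Set.range δ = δ '' S ∪ δ '' Sᶜ := by
        rw [← Set.image_union, Set.union_compl_self, Set.image_univ]
      rw [h2, Submodule.span_union, Submodule.mem_sup] at h1
      obtain ⟨y, hy, z, hz, rfl⟩ := h1
      have h3 := R.two _ hx
      rw [R.norm_add, horth y hy z hz, mul_zero, add_zero] at h3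
      obtain ⟨a, ha⟩ := R.even (hle S hy)
      obtain ⟨b, hb⟩ := R.even (hle Sᶜ hz)
      have h4 : 0 ≤ B y y := by
        by_cases h0 : y = 0
        · rw [h0, map_zero]
        · exact (R.pos y h0).le
      have h5 : 0 ≤ B z z := by
        by_cases h0 : z = 0
        · rw [h0, map_zero]
        · exact (R.pos z h0).le
      by_cases h6 : B y y ≤ 0
      · have := R.eq_zero h6
        subst this
        right
        rw [zero_add] at hx ⊢
        exact ⟨hx, hz⟩
      · have h7 : B z z ≤ 0 := by omega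
        have := R.eq_zero h7
        subst this
        left
        rw [add_zero] at hx ⊢
        exact ⟨hx, hy⟩
  · rintro x ⟨-, hx⟩ y ⟨-, hy⟩
    exact horth x hx y hy

end RS

end Cfsg.Agent.H572.OT
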