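import Cfsg.Agent.H436.Ppd

/-!
# Rotations of order three and primes dividing `2 ^ n - 1` (helper572), for S2539, 4.1-4.3

* `three_eq_zero` : four commuting rotations `1 + w + w ^ 2 = 0` give `3 = 0`;
* `card_le_nine` : a group of exponent three on which `1 + w + w ^ 2 = 0` and with at most three fixed points has order
  at most nine;
* `exists_prime_ge_eleven` : `2 ^ n - 1` has a prime divisor at least eleven for `n ≥ 5`, `n ≠ 6`.
-/

set_option autoImplicit false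

namespace Cfsg.Agent.H572.OT

open Subgroup

/-- the sum over the four cyclic subgroups -/
theorem three_eq_zero {R : Type*} [Ring R] {a b : R} (hab : a * b = b * a) (hb3 : b ^ 3 = 1)
    (ha : 1 + a + a ^ 2 = 0) (hb : 1 + b + b ^ 2 = 0) (h1 : 1 + a * b + (a * b) ^ 2 = 0)
    (h2 : 1 + a * b ^ 2 + (a * b ^ 2) ^ 2 = 0) : (3 : R) = 0 := by
  have hc : Commute a b := hab
  have e1 : (a * b) ^ 2 = a ^ 2 * b ^ 2 := hc.mul_pow 2
  have e2 : (a * b ^ 2) ^ 2 = a ^ 2 * b := by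
    have hb4 : b ^ 4 = b := by rw [show (4 : ℕ) = 3 + 1 from rfl, pow_succ, hb3, one_mul]
    rw [(hc.pow_right 2).mul_pow, ← pow_mul, show 2 * 2 = 4 from rfl, hb4]
  rw [e1] at h1
  rw [e2] at h2
  have h3 : (1 + a + a ^ 2) * (1 + b + b ^ 2) = 0 := by rw [ha, zero_mul]
  have h4 : (3 : R) = (1 + a + a ^ 2) + (1 + b + b ^ 2) + (1 + a * b + a ^ 2 * b ^ 2) + (1 + a * b ^ 2 + a ^ 2 * b) -
      (1 + a + a ^ 2) * (1 + b + b ^ 2) := by
    have h5 : (1 + a + a ^ 2) * (1 + b + b ^ 2) = 1 + a + a ^ 2 + b + b ^ 2 + a * b + a ^ 2 * b ^ 2 + a * b ^ 2 +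
        a ^ 2 * b := by noncomm_ring
    rw [h5]
    have h6 : (3 : R) = 1 + 1 + 1 := by norm_num
    rw [h6]
    abel
  rw [h4, ha, hb, h1, h2, zero_mul]
  simp

/-- **A group of exponent three with a rotation with at most three fixed points.** -/
theorem card_le_nine {Y : Type*} [Group Y] [Finite Y] {V : Subgroup Y} {b : Y} (hcomm : ∀ x ∈ V, ∀ y ∈ V, x * y = y * x)
    (h3 : ∀ v ∈ V, v ^ 3 = 1) (hb : ∀ v ∈ V, b * v * b⁻¹ ∈ V)
    (hN : ∀ v ∈ V, v * (b * v * b⁻¹) * (b * (b * v * b⁻¹) * b⁻¹) = 1)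
    (hfix : Nat.card ↥(V ⊓ centralizer ({b} : Set Y)) ≤ 3) : Nat.card ↥V ≤ 9 := by
  -- the homomorphism `v ↦ v ^ b v⁻¹`
  let f : ↥V →* ↥V :=
    { toFun := fun v => ⟨b * v * b⁻¹ * (v : Y)⁻¹, V.mul_mem (hb v v.2) (V.inv_mem v.2)⟩
      map_one' := by
        apply Subtype.ext
        simp
      map_mul' := by
        intro v w
        apply Subtype.ext
        change b * ((v : Y) * w) * b⁻¹ * ((v : Y) * w)⁻¹ = b * v * b⁻¹ * (v : Y)⁻¹ * (b * w * b⁻¹ * (w : Y)⁻¹)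
        have h1 : b * ((v : Y) * w) * b⁻¹ = (b * v * b⁻¹) * (b * w * b⁻¹) := by group
        have h2 : (b * w * b⁻¹) * ((v : Y) * w)⁻¹ = (v : Y)⁻¹ * (b * w * b⁻¹ * (w : Y)⁻¹) := by
          rw [mul_inv_rev, ← mul_assoc, hcomm _ (V.mul_mem (hb w w.2) (V.inv_mem w.2)) _ (V.inv_mem v.2)]
        rw [h1, mul_assoc (b * (v : Y) * b⁻¹), h2, ← mul_assoc] }
  have hf : ∀ v : ↥V, ((f v : ↥V) : Y) = b * v * b⁻¹ * (v : Y)⁻¹ := fun v => rfl
  have hker : f.ker.map V.subtype ≤ V ⊓ centralizer ({b} : Set Y) := by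
    rintro _ ⟨v, hv, rfl⟩
    refine ⟨v.2, mem_centralizer_singleton_iff.2 ?_⟩
    have h1 : ((f v : ↥V) : Y) = 1 := by rw [MonoidHom.mem_ker.1 hv]; rfl
    rw [hf, mul_inv_eq_one] at h1
    change (v : Y) * b = b * v
    calc (v : Y) * b = (b * v * b⁻¹) * b := by rw [h1]
      _ = b * v := by group
  have hrange : f.range.map V.subtype ≤ V ⊓ centralizer ({b} : Set Y) := by
    rintro _ ⟨_, ⟨v, rfl⟩, rfl⟩
    refine ⟨(f v).2, mem_centralizer_singleton_iff.2 ?_⟩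
    change ((f v : ↥V) : Y) * b = b * ((f v : ↥V) : Y)
    rw [hf]
    set x : Y := b * v * b⁻¹ with hx
    have hxV : x ∈ V := hb v v.2
    have hyV : b * x * b⁻¹ ∈ V := hb x hxV
    have h1 : (v : Y) * x * (b * x * b⁻¹) = 1 := hN v v.2
    have h2 : b * x * b⁻¹ = x⁻¹ * (v : Y)⁻¹ := by
      rw [mul_eq_one_iff_inv_eq] at h1
      rw [← h1, mul_inv_rev]
    -- `b (x v⁻¹) b⁻¹ = x⁻¹ v⁻¹ x⁻¹ = x v⁻¹ x⁻³`
    have h4 : b * (x * (v : Y)⁻¹) * b⁻¹ = x * (v : Y)⁻¹ := by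
      have h5 : b * (x * (v : Y)⁻¹) * b⁻¹ = (b * x * b⁻¹) * x⁻¹ := by
        rw [hx]; group
      have h6 : x⁻¹ * x⁻¹ = x := by
        have h7 := h3 x hxV
        have h8 : x * x * x = 1 := by rw [← h7, pow_succ, pow_two]
        have h9 : x * x = x⁻¹ := by rw [mul_eq_one_iff_eq_inv] at h8; exact h8
        rw [← mul_inv_rev, h9, inv_inv]
      rw [h5, h2, mul_assoc, hcomm _ (V.inv_mem v.2) _ (V.inv_mem hxV), ← mul_assoc, h6]
    calc x * (v : Y)⁻¹ * b = (b * (x * (v : Y)⁻¹) * b⁻¹) * b := by rw [h4]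
      _ = b * (x * (v : Y)⁻¹) := by group
  have c1 : Nat.card ↥f.ker ≤ 3 := by
    have h1 := Subgroup.card_le_of_le hker
    rw [Subgroup.card_map_of_injective V.subtype_injective] at h1
    exact h1.trans hfix
  have c2 : Nat.card ↥f.range ≤ 3 := by
    have h1 := Subgroup.card_le_of_le hrange
    rw [Subgroup.card_map_of_injective V.subtype_injective] at h1
    exact h1.trans hfix
  have c3 : Nat.card ↥f.ker * Nat.card ↥f.range = Nat.card ↥V := by
    rw [← Subgroup.index_ker, Subgroup.card_mul_index]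
  rw [← c3]
  exact (Nat.mul_le_mul c1 c2).trans (by norm_num)

/-- **A prime divisor at least eleven.** -/
theorem exists_prime_ge_eleven {n : ℕ} (h5 : 5 ≤ n) (h6 : n ≠ 6) : ∃ l : ℕ, l.Prime ∧ 11 ≤ l ∧ l ∣ 2 ^ n - 1 := by
  by_cases h10 : 10 ≤ n
  · obtain ⟨r, hr⟩ := H436.exists_prim (q := 2) (e := n) le_rfl (by omega) (by omega)
    refine ⟨r, hr.prime, ?_, hr.dvd dvd_rfl⟩
    have hd : n ∣ r - 1 := by
      apply (hr.dvd_iff (r - 1)).1
      have h2 : r.Coprime 2 := (Nat.coprime_primes hr.prime Nat.prime_two).2 (by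
        have := hr.odd (by omega)
        omega)
      have h3 := Nat.ModEq.pow_totient h2.symm
      rw [Nat.totient_prime hr.prime] at h3
      exact (Nat.modEq_iff_dvd' (Nat.one_le_two_pow)).1 h3.symm
    have h3 := Nat.le_of_dvd (by have := hr.prime.two_le; omega) hd
    omega
  · interval_cases n
    · exact ⟨31, by norm_num, by norm_num, by norm_num⟩
    · exact absurd rfl h6
    · exact ⟨127, by norm_num, by norm_num, by norm_num⟩
    · exact ⟨17, by norm_num, by norm_num, by norm_num⟩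
    · exact ⟨73, by norm_num, by norm_num, by norm_num⟩

end Cfsg.Agent.H572.OT
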